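import Cfsg.Agent.H706.Cyc.Lf

/-!
# The facts `LF` for `PΩ⁺`, `PΩ⁻`: the rows (helper706; S3441, task 4354)

`lf_oplus`, `lf_ominus`.
-/

set_option autoImplicit false

namespace Cfsg.Agent.H706.Cyc

open Module Cfsg QuadraticMap Cfsg.Agent.H150 Cfsg.Agent.H377 Cfsg.Agent.H72.AdjOrth Cfsg.Agent.H376.Cyc
open Cfsg.Agent.LieClassical.OmegaReindex
open Cfsg.Agent.H706.ESeven (eta_le_of_dvd eta_two_mul pow_two_mul_sub prod_arith)

universe v

theorem lf_of_pair {L : Type*} [Group L] [Finite L] {r₁ r₂ : ℕ} (hr₁ : r₁.Prime) (hr₂ : r₂.Prime) (h₁5 : 5 ≤ r₁)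
    (h₂5 : 5 ≤ r₂) (hd₁ : r₁ ∣ Nat.card L) (hd₂ : r₂ ∣ Nat.card L) (hne : r₁ ≠ r₂)
    (h12 : ¬ ∃ x : L, orderOf x = r₂ * r₁)
    (hcom : ∀ s : ℕ, s.Prime → s ≠ 2 → s ≠ r₁ → s ≠ r₂ → (∃ x : L, orderOf x = s * r₁) →
      (∃ x : L, orderOf x = s * r₂) → False)
    (h2 : (¬ ∃ x : L, orderOf x = 2 * r₁) ∨ (¬ ∃ x : L, orderOf x = 2 * r₂)) : LF L := by
  rcases h2 with h2 | h2
  · exact LF.of_two hr₁ h₁5 hd₁ hr₂ hd₂ hne.symm h2 (by rwa [mul_comm]) fun s hs hs2 hs₁ hs₂ ha hb =>
      hcom s hs hs2 hs₁ hs₂ ha hb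
  · exact LF.of_two hr₂ h₂5 hd₂ hr₁ hd₁ hne h2 h12 fun s hs hs2 hs₂ hs₁ ha hb =>
      hcom s hs hs2 hs₁ hs₂ hb ha

theorem lf_of_iso {L : Type*} [Group L] {r t : ℕ} (hr : r.Prime) (h5 : 5 ≤ r) (hd : r ∣ Nat.card L)
    (h2 : ¬ ∃ x : L, orderOf x = 2 * r) (ht : t.Prime) (ht2 : t ≠ 2) (htr : t ≠ r) (htL : t ∣ Nat.card L)
    (h : ∀ s : ℕ, s.Prime → s ≠ 2 → s ≠ r → s ∣ Nat.card L → ¬ ∃ x : L, orderOf x = s * r) : LF L := by
  refine ⟨⟨r, hr, h5, hd, h2⟩, fun s hs hs2 hsL => ?_⟩
  by_cases hsr : s = r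
  · subst hsr
    exact ⟨t, ht, htr, htL, by rw [mul_comm]; exact h t ht ht2 htr htL⟩
  · exact ⟨r, hr, fun h => hsr h.symm, hd, h s hs hs2 hsr hsL⟩

section ctx

variable {F : Type v} [Field F] [Fintype F] {ι : Type} [Fintype ι] [DecidableEq ι] {Q : QuadraticForm F (ι → F)}
  {n : ℕ}

theorem card_mod_four (h2 : (2 : F) ≠ 0) : Fintype.card F % 4 = 1 ∨ Fintype.card F % 4 = 3 := by
  obtain ⟨t, ht⟩ := odd_card_of_two_ne_zero h2
  omega

theorem two_zero (h : Fintype.card F = 2) : (2 : F) = 0 := by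
  have := FiniteField.cast_card_eq_zero F
  rw [h] at this
  exact_mod_cast this

theorem ne_zero_of_odd (h : Fintype.card F = 2) {s : ℕ} (hs : s.Prime) (hs2 : s ≠ 2) : (s : F) ≠ 0 := by
  rw [Cfsg.Agent.H390.NonAdj.natCast_ne_zero_iff hs, Nat.card_eq_fintype_card, h]
  intro h1
  exact hs2 ((Nat.prime_dvd_prime_iff_eq hs Nat.prime_two).1 h1)

theorem lf_plus (C : Cx Q n 1) [Finite (POmega F (⇑Q))] : LF (POmega F (⇑Q)) := by
  have hn := C.hn
  have hqe : Nat.card F = Fintype.card F := Nat.card_eq_fintype_card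
  by_cases h6 : Fintype.card F = 2 ∧ n = 4
  · -- `Ω₈⁺(2)`: the prime 7
    obtain ⟨hq2, rfl⟩ := h6
    have h20 : (2 : F) = 0 := two_zero hq2
    obtain ⟨r, hr, hr5, hrF, hk, hrm⟩ := exists_pr (F := F) (k := 3) (by omega) (by omega)
    obtain ⟨t, ht, ht5, htF, hkt, htm⟩ := exists_pr (F := F) (k := 4) (by omega) (by omega)
    have hrL : r ∣ Nat.card (POmega F (⇑Q)) := dvd_L_prod C hr (by omega) hrm (by norm_num)
    have htL : t ∣ Nat.card (POmega F (⇑Q)) :=
      C.dvp t ht (by omega) (dvd_prod_factor htm (i := 2) (by omega) (by omega) (by norm_num))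
    have htr : t ≠ r := by
      rintro rfl
      omega
    refine lf_of_iso hr hr5 hrL ?_ ht (by omega) htr htL ?_
    · rintro ⟨g, hg⟩
      exact gen_partial_even h20 Q C.nd C.dim C.iso hr (by omega) hrF (by omega) hk (Or.inl ⟨by decide, rfl⟩) g hg
    · intro s hs hs2 hsr hsL hex
      have hsF := ne_zero_of_odd hq2 hs hs2
      have h1 := nb_plus_two C hr hs (by omega) hs2 hsr hrF hsF hk (by decide) (Or.inr rfl) hex
      have h2 := C.cls s hs hsF hsL
      rw [eta, if_neg (Nat.not_even_iff_odd.2 h1)] at h2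
      have h3 : ee (Nat.card F) s = 1 ∨ ee (Nat.card F) s = 3 := by
        obtain ⟨j, hj⟩ := h1
        omega
      have h4 : ∀ {s : ℕ} {j : ℕ}, ee (Nat.card F) s = j → s ∣ 2 ^ j - 1 := by
        intro s j h
        have := dvd_pow_ee (q := Nat.card F) (r := s) q_pos
        rwa [h, hqe, hq2] at this
      rcases h3 with h3 | h3
      · exact hs.one_lt.ne' (Nat.dvd_one.1 (h4 h3))
      · have h5 : s ∣ 7 := h4 h3
        have h6 : r ∣ 7 := h4 hk
        have h7 : Nat.Prime 7 := by norm_num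
        exact hsr (((Nat.prime_dvd_prime_iff_eq hs h7).1 h5).trans ((Nat.prime_dvd_prime_iff_eq hr h7).1 h6).symm)
  · obtain ⟨k₂, hk₂o, hk₂n⟩ : ∃ k₂, Odd k₂ ∧ ((k₂ = n) ∨ (k₂ = n - 1)) := by
      rcases Nat.even_or_odd n with h | h
      · exact ⟨n - 1, by obtain ⟨j, hj⟩ := h; exact ⟨j - 1, by omega⟩, Or.inr rfl⟩
      · exact ⟨n, h, Or.inl rfl⟩
    obtain ⟨r₁, hr₁, h₁5, h₁F, hk₁, hm₁⟩ := exists_pr (F := F) (k := 2 * (n - 1)) (by omega) (by omega)
    obtain ⟨r₂, hr₂, h₂5, h₂F, hk₂, hm₂⟩ := exists_pr (F := F) (k := k₂) (by omega) (by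
      rintro ⟨-, h⟩
      rw [h] at hk₂o
      exact absurd hk₂o (by decide))
    have hd₁ : r₁ ∣ Nat.card (POmega F (⇑Q)) := dvd_L_prod C hr₁ (by omega) hm₁ dvd_rfl
    have hd₂ : r₂ ∣ Nat.card (POmega F (⇑Q)) := by
      rcases hk₂n with h | h
      · refine C.dvn r₂ hr₂ (by omega) ?_
        have := dvd_plus (F := F) hk₂
        rwa [h, hqe] at this
      · exact dvd_L_prod C hr₂ (by omega) hm₂ (by rw [h]; exact Dvd.intro_left 2 rfl)
    have hne : r₁ ≠ r₂ := by
      rintro rfl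
      rw [hk₁] at hk₂
      rw [← hk₂] at hk₂o
      exact (Nat.not_even_iff_odd.2 hk₂o) (even_two_mul _)
    have h12 : ¬ ∃ x : POmega F (⇑Q), orderOf x = r₂ * r₁ := by
      intro hex
      have := nb_plus_one C hr₁ hr₂ (by omega) (by omega) hne.symm h₁F h₂F hk₁ hex
      rw [hk₂] at this
      exact (Nat.not_even_iff_odd.2 hk₂o) this
    refine lf_of_pair hr₁ hr₂ h₁5 h₂5 hd₁ hd₂ hne h12 ?_ ?_
    · intro s hs hs2 hs₁ hs₂ ha hb
      by_cases hsF : (s : F) = 0
      · refine nch C hr₁ hs (by omega) h₁F hsF (Or.inr ?_) ha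
        rw [hk₁, eta, if_pos (even_two_mul _), Nat.mul_div_cancel_left _ two_pos]
      · have h1 := nb_plus_one C hr₁ hs (by omega) hs2 hs₁ h₁F hsF hk₁ ha
        have h2 := nb_plus_two C hr₂ hs (by omega) hs2 hs₂ h₂F hsF hk₂ hk₂o hk₂n hb
        exact (Nat.not_even_iff_odd.2 h2) h1
    · by_cases h20 : (2 : F) = 0
      · left
        rintro ⟨g, hg⟩
        exact gen_partial_even h20 Q C.nd C.dim C.iso hr₁ (by omega) h₁F (by omega) hk₁
          (Or.inr ⟨even_two_mul _, rfl⟩) g hg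
      · rcases card_mod_four h20 with h4 | h4
        · left
          rintro ⟨g, hg⟩
          refine gen_partial_irr h20 Q C.nd C.dim C.iso hr₁ (by omega) h₁F (by omega) (Or.inl rfl) C.sg hk₁ ?_ ?_ ?_ ?_
            g hg
          · have := dvd_minus hr₁ h₁F hk₁
            rw [sub_neg_eq_add] at this
            exact_mod_cast this
          · rw [hqe, Nat.pow_mod, h4, one_pow]
            rfl
          · have hz : (Nat.card F : ℤ) % 4 = 1 := by rw [hqe]; exact_mod_cast h4
            have := pow_emod_four hz n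
            omega
          · rw [hqe]
            omega
        · right
          rintro ⟨g, hg⟩
          rcases Nat.even_or_odd n with h | h
          · have hk₂' : k₂ = n - 1 := by
              rcases hk₂n with h1 | h1
              · exfalso
                rw [h1] at hk₂o
                exact (Nat.not_even_iff_odd.2 hk₂o) h
              · exact h1
            subst hk₂'
            refine gen_partial_odd h20 Q C.nd C.dim C.iso hr₂ (by omega) h₂F (by omega) (Or.inl rfl) C.sg hk₂ hk₂o ?_ ?_ ?_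
              g hg
            · rw [hqe]; exact h4
            · have hz : (Nat.card F : ℤ) % 4 = 3 := by rw [hqe]; exact_mod_cast h4
              obtain ⟨t, ht⟩ := h
              have := pow_emod_four_even hz t
              rw [ht, ← two_mul]
              omega
            · rw [hqe]
              omega
          · have hk₂' : k₂ = n := by
              rcases hk₂n with h1 | h1
              · exact h1
              · exfalso
                obtain ⟨a, ha⟩ := h
                obtain ⟨b, hb⟩ := hk₂o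
                omega
            subst hk₂'
            exact gen_full_odd h20 Q C.nd C.dim C.iso hr₂ (by omega) h₂F (by omega) hk₂ hk₂o (by rw [hqe]; exact h4)
              g hg

theorem lf_minus (C : Cx Q n (-1)) [Finite (POmega F (⇑Q))] : LF (POmega F (⇑Q)) := by
  have hn := C.hn
  have hqe : Nat.card F = Fintype.card F := Nat.card_eq_fintype_card
  obtain ⟨r₁, hr₁, h₁5, h₁F, hk₁, hm₁⟩ := exists_pr (F := F) (k := 2 * n) (by omega) (by omega)
  have hr1d := dvd_minus hr₁ h₁F hk₁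
  have hd₁ : r₁ ∣ Nat.card (POmega F (⇑Q)) := C.dvn r₁ hr₁ (by omega) (by rw [← hqe]; exact hr1d)
  have heven : (2 : F) = 0 → ¬ ∃ x : POmega F (⇑Q), orderOf x = 2 * r₁ := by
    rintro h20 ⟨g, hg⟩
    exact gen_full_even h20 Q C.nd C.dim C.iso hr₁ (by omega) h₁F (by omega) hk₁ (Or.inr ⟨even_two_mul n, rfl⟩) g hg
  by_cases h6 : Fintype.card F = 2 ∧ n = 4
  · -- `Ω₈⁻(2)`: the prime 17
    obtain ⟨hq2, rfl⟩ := h6
    have h20 : (2 : F) = 0 := two_zero hq2
    obtain ⟨t, ht, ht5, htF, hkt, htm⟩ := exists_pr (F := F) (k := 4) (by omega) (by omega)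
    have htL : t ∣ Nat.card (POmega F (⇑Q)) :=
      C.dvp t ht (by omega) (dvd_prod_factor htm (i := 2) (by omega) (by omega) (by norm_num))
    have htr : t ≠ r₁ := by
      rintro rfl
      omega
    refine lf_of_iso hr₁ h₁5 hd₁ (heven h20) ht (by omega) htr htL ?_
    intro s hs hs2 hsr hsL hex
    have hsF := ne_zero_of_odd hq2 hs hs2
    have h1 := nb_minus_one C hr₁ hs (by omega) hs2 hsr h₁F hsF hk₁ hex
    have h2 := C.cls s hs hsF hsL
    have h0 := cl_pos hs hsF
    have h3 : ee (Nat.card F) s = 2 * 4 := by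
      obtain ⟨j, ⟨i, hj⟩, h3 | h3⟩ := h1
      · subst hj
        have h4 : 2 * 4 = ee (Nat.card F) s := by
          have h5 : (2 * i + 1) ∣ 2 ^ 3 := ⟨ee (Nat.card F) s, by rw [mul_comm]; omega⟩
          obtain ⟨e, -, he⟩ := (Nat.dvd_prime_pow Nat.prime_two).1 h5
          rcases Nat.eq_zero_or_pos e with h6 | h6
          · rw [h6, pow_zero] at he
            rw [he, mul_one] at h3
            exact h3
          · exfalso
            obtain ⟨e', rfl⟩ : ∃ e', e = e' + 1 := ⟨e - 1, by omega⟩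
            rw [pow_succ] at he
            omega
        exact h4.symm
      · subst hj
        rw [h3, eta, if_pos (by rw [mul_assoc]; exact even_two_mul _), mul_assoc, Nat.mul_div_cancel_left _ two_pos] at h2
        have h4 : i = 0 := by omega
        rw [h3, h4]
        norm_num
    have h4 : ∀ {s : ℕ}, s.Prime → (s : F) ≠ 0 → ee (Nat.card F) s = 2 * 4 → s ∣ 17 := by
      intro s hs hsF h
      have := dvd_minus hs hsF h
      rw [hqe, hq2] at this
      have h17 : ((2 : ℕ) : ℤ) ^ 4 - (-1) = ((17 : ℕ) : ℤ) := by norm_num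
      rw [h17] at this
      exact_mod_cast this
    have h17 : Nat.Prime 17 := by norm_num
    exact hsr (((Nat.prime_dvd_prime_iff_eq hs h17).1 (h4 hs hsF h3)).trans
      ((Nat.prime_dvd_prime_iff_eq hr₁ h17).1 (h4 hr₁ h₁F hk₁)).symm)
  · obtain ⟨r₂, hr₂, h₂5, h₂F, hk₂, hm₂⟩ := exists_pr (F := F) (k := 2 * (n - 1)) (by omega) (by omega)
    have hd₂ : r₂ ∣ Nat.card (POmega F (⇑Q)) := dvd_L_prod C hr₂ (by omega) hm₂ dvd_rfl
    have hne : r₁ ≠ r₂ := by
      rintro rfl
      omega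
    have hval := val_ne (n := n) (by omega)
    have h12 : ¬ ∃ x : POmega F (⇑Q), orderOf x = r₂ * r₁ := by
      intro hex
      have := nb_minus_one C hr₁ hr₂ (by omega) (by omega) hne.symm h₁F h₂F hk₁ hex
      rw [hk₂] at this
      exact hval (val_of_oddM (by omega) (by omega) this).symm
    refine lf_of_pair hr₁ hr₂ h₁5 h₂5 hd₁ hd₂ hne h12 ?_ ?_
    · intro s hs hs2 hs₁ hs₂ ha hb
      by_cases hsF : (s : F) = 0
      · refine nch C hr₁ hs (by omega) h₁F hsF (Or.inl ?_) ha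
        rw [hk₁, eta, if_pos (even_two_mul _), Nat.mul_div_cancel_left _ two_pos]
      · have h0 := cl_pos hs hsF
        have h1 := val_of_oddM (by omega) (by omega) (nb_minus_one C hr₁ hs (by omega) hs2 hs₁ h₁F hsF hk₁ ha)
        rcases nb_minus_two C hr₂ hs (by omega) hs2 hs₂ h₂F hsF hk₂ hb with h2 | h2
        · exact hval (h1.symm.trans (val_of_oddM (by omega) (by omega) h2))
        · rw [h2, padicValNat.one] at h1
          have h3 : 1 ≤ padicValNat 2 (2 * n) := one_le_padicValNat_of_dvd (by omega) (Dvd.intro _ rfl)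
          omega
    · by_cases h20 : (2 : F) = 0
      · exact Or.inl (heven h20)
      · by_cases hcase : Nat.card F ^ n % 4 = 1
        · left
          rintro ⟨g, hg⟩
          refine gen_full_irr h20 Q C.nd C.dim C.iso hr₁ (by omega) h₁F (by omega) hk₁ ?_ hcase g hg
          rw [sub_neg_eq_add] at hr1d
          exact_mod_cast hr1d
        · right
          rintro ⟨g, hg⟩
          have h3 : Fintype.card F % 4 = 3 := by
            refine (card_mod_four h20).resolve_left fun h => hcase ?_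
            rw [hqe, Nat.pow_mod, h, one_pow]
            rfl
          have hnodd : Odd n := by
            rw [← Nat.not_even_iff_odd]
            rintro ⟨t, rfl⟩
            apply hcase
            rw [hqe, ← two_mul, pow_mul, Nat.pow_mod, Nat.pow_mod _ 2, h3]
            norm_num
          have hz : (Nat.card F : ℤ) % 4 = 3 := by rw [hqe]; exact_mod_cast h3
          obtain ⟨t, ht⟩ := hnodd
          refine gen_partial_irr h20 Q C.nd C.dim C.iso hr₂ (by omega) h₂F (by omega) (Or.inr rfl) C.sg hk₂ ?_ ?_ ?_ ?_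
            g hg
          · have := dvd_minus hr₂ h₂F hk₂
            rw [sub_neg_eq_add] at this
            exact_mod_cast this
          · have h5 := pow_emod_four_even hz t
            have h6 : n - 1 = 2 * t := by omega
            rw [h6]
            exact_mod_cast h5
          · have h5 := pow_emod_four_odd hz t
            rw [ht]
            omega
          · omega

end ctx

section rows

variable {F : Type v} [Field F] [Fintype F]

theorem eta_le_of_card {s n : ℕ} (hs : s.Prime) (hsF : (s : F) ≠ 0) (hn : 4 ≤ n) {c T N : ℕ}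
    (h : Nat.gcd 4 c * N = Fintype.card F ^ (n * (n - 1)) * T * ∏ i ∈ Finset.range (n - 1), (Fintype.card F ^ (2 * (i + 1)) - 1))
    (hT : T ∣ Fintype.card F ^ (2 * n) - 1) (hd : s ∣ N) : eta (ee (Nat.card F) s) ≤ n := by
  have hqe : Nat.card F = Fintype.card F := Nat.card_eq_fintype_card
  have h1 : s ∣ Nat.gcd 4 c * N := Dvd.dvd.mul_left hd _
  rw [h, ← hqe] at h1
  rcases (Nat.Prime.dvd_mul hs).1 h1 with h3 | h3
  · rcases (Nat.Prime.dvd_mul hs).1 h3 with h4 | h4
    · exact absurd (hs.dvd_of_dvd_pow h4) (ndvd hs hsF)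
    · exact eta_two_mul q_pos (by omega) ((h4.trans hT).trans (by rw [hqe]))
  · have := prod_arith q_pos hs h3
    omega

theorem cx_plus {n : ℕ} (hn : 4 ≤ n) : Cx (quadPlus n F) n 1 := by
  have hord := Cfsg.Agent.S0293.result (F := F) rfl n hn
  have hqe : Nat.card F = Fintype.card F := Nat.card_eq_fintype_card
  have hnd := quadPlus_nondegenerate (m := n) (F := F)
  have hs := quadPlus_sing (F := F) (n := n) (by omega)
  have hcard : Fintype.card (Fin n ⊕ Fin n) = 2 * n := by simp; ring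
  rw [← coe_quadPlus] at hord
  refine ⟨hn, Or.inl rfl, hnd, by simp; ring, hs, by rw [coe_quadPlus]; exact hasSign_quadFormPlus n,
    Cfsg.Agent.H390.data_of _ hnd (by rw [hcard]; omega) hs (Or.inr (by rw [hcard]; omega)), ?_, ?_, ?_⟩
  · intro r hr hr2 h
    exact dvd_of_gcd_mul hr hr2 hord (dvd_mul_of_dvd_right h _)
  · intro r hr hr2 h
    refine dvd_of_gcd_mul hr hr2 hord (dvd_mul_of_dvd_left (dvd_mul_of_dvd_right ?_ _) _)
    have h1 : 1 ≤ Fintype.card F ^ n := Nat.one_le_pow _ _ Fintype.card_pos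
    have h2 : ((Fintype.card F ^ n - 1 : ℕ) : ℤ) = (Fintype.card F : ℤ) ^ n - 1 := by
      rw [Nat.cast_sub h1]
      push_cast
      rfl
    rw [← h2] at h
    exact_mod_cast h
  · intro s hs' hsF hd
    refine eta_le_of_card hs' hsF hn hord ?_ hd
    rw [pow_two_mul_sub]
    exact Dvd.intro_left _ rfl

theorem cx_minus {n : ℕ} (hn : 4 ≤ n) {a b : F}
    (hab : ∀ z₁ z₂ : F, z₁ ^ 2 + a * z₁ * z₂ + b * z₂ ^ 2 = 0 → z₁ = 0 ∧ z₂ = 0) :
    Cx (quadMinus (n - 1) F a b) n (-1) := by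
  have hord := Cfsg.Agent.S0294.result (F := F) rfl n hn a b hab
  have hnd := quadMinus_nondegenerate (m := n - 1) (F := F) hab
  have hs := quadMinus_sing (F := F) (n := n - 1) (by omega) a b
  have hcard : Fintype.card ((Fin (n - 1) ⊕ Fin (n - 1)) ⊕ Fin 2) = 2 * n := by simp; omega
  have hsign : HasSign (⇑(quadMinus (n - 1) F a b)) n (-1) := by
    rw [coe_quadMinus]
    have := hasSign_quadFormMinus (n - 1) (a := a) (b := b) hab
    rwa [Nat.sub_add_cancel (by omega)] at this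
  rw [← coe_quadMinus] at hord
  refine ⟨hn, Or.inr rfl, hnd, by simp; omega, hs, hsign,
    Cfsg.Agent.H390.data_of _ hnd (by rw [hcard]; omega) hs (Or.inr (by rw [hcard]; omega)), ?_, ?_, ?_⟩
  · intro r hr hr2 h
    exact dvd_of_gcd_mul hr hr2 hord (dvd_mul_of_dvd_right h _)
  · intro r hr hr2 h
    refine dvd_of_gcd_mul hr hr2 hord (dvd_mul_of_dvd_left (dvd_mul_of_dvd_right ?_ _) _)
    rw [sub_neg_eq_add] at h
    exact_mod_cast h
  · intro s hs' hsF hd
    refine eta_le_of_card hs' hsF hn hord ?_ hd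
    rw [pow_two_mul_sub]
    exact Dvd.intro _ rfl

/-- **`PΩ⁺_{2n}(q)`** -/
theorem lf_oplus {n : ℕ} (hn : 4 ≤ n) : LF (POmega F (quadFormPlus n F)) := by
  have C := cx_plus (F := F) hn
  rw [← coe_quadPlus]
  have : Finite (POmega F (⇑(quadPlus n F))) := inferInstance
  exact lf_plus C

/-- **`PΩ⁻_{2n}(q)`** -/
theorem lf_ominus {n : ℕ} (hn : 4 ≤ n) {a b : F}
    (hab : ∀ z₁ z₂ : F, z₁ ^ 2 + a * z₁ * z₂ + b * z₂ ^ 2 = 0 → z₁ = 0 ∧ z₂ = 0) :
    LF (POmega F (quadFormMinus (n - 1) F a b)) := by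
  have C := cx_minus (F := F) hn hab
  rw [← coe_quadMinus]
  have : Finite (POmega F (⇑(quadMinus (n - 1) F a b))) := inferInstance
  exact lf_minus C

end rows

end Cfsg.Agent.H706.Cyc
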