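import Mathlib
import Cfsg.Agent.H390.OrthDec
import Cfsg.Agent.H150.SignCount

/-!
# Commuting isometries, the boundary case (helper706; S3441, task 4354)

`bd`: `V` of dimension `2 n` and sign `ε`; `y` an isometry of prime order `w` of class `k`, `η(k) = n - 1`, `w ∣ q ^ (n - 1) - σ`;
`x` an isometry of odd prime order `v ∣ q - τ` commuting with `y`. If `ε σ = - τ` then `v ∣ q ^ (n - 1) - σ`.
-/

set_option autoImplicit false

namespace Cfsg.Agent.H706.Cyc

open Module Cfsg Cfsg.Agent.H150 Cfsg.Agent.H377 Cfsg.Agent.H390.Dec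

/-- fixed points modulo a prime -/
theorem modEq_fixed {α : Type*} [Finite α] {r : ℕ} (hr : r.Prime) (σ : α → α) (hσ : ∀ a, σ^[r] a = a) :
    Nat.card α ≡ Nat.card {a // σ a = a} [MOD r] := by
  classical
  have := Fact.mk hr
  have : Fintype α := Fintype.ofFinite α
  let f : Function.End α := σ
  have hf : ∀ j : ℕ, ∀ a, (f ^ j) a = σ^[j] a := by
    intro j
    induction j with
    | zero => intro a; rfl
    | succ j ih =>
      intro a
      rw [pow_succ, Function.iterate_succ_apply, ← ih]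
      rfl
  have h : f ^ r ^ 1 = 1 := by
    rw [pow_one]
    funext a
    rw [hf, hσ]
    rfl
  have h1 := Equiv.Perm.card_fixedPoints_modEq h
  rw [Nat.card_eq_fintype_card, Nat.card_eq_fintype_card]
  exact h1

variable {F : Type*} [Field F] {V : Type*} [AddCommGroup V] [Module F V]

theorem mem_ker_sub {x : V →ₗ[F] V} {v : V} : v ∈ LinearMap.ker (x - 1) ↔ x v = v := by
  rw [LinearMap.mem_ker, LinearMap.sub_apply, Module.End.one_apply, sub_eq_zero]

/-- the number of vectors with `Q v = c` modulo `r` -/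
theorem card_modEq [Finite V] (Q : QuadraticForm F V) {r : ℕ} (hr : r.Prime) (x : V →ₗ[F] V) (hx : x ^ r = 1)
    (hxQ : ∀ v, Q (x v) = Q v) (c : F) :
    Nat.card {v : V // Q v = c} ≡
      Nat.card {u : LinearMap.ker (x - 1) // (Q.comp (LinearMap.ker (x - 1)).subtype) u = c} [MOD r] := by
  let σ : {v : V // Q v = c} → {v : V // Q v = c} := fun v => ⟨x v, by rw [hxQ]; exact v.2⟩
  have hσ : ∀ (j : ℕ) (v : {v : V // Q v = c}), ((σ^[j] v : {v : V // Q v = c}) : V) = (x ^ j) v := by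
    intro j
    induction j with
    | zero => intro v; rfl
    | succ j ih =>
      intro v
      rw [Function.iterate_succ_apply, ih, pow_succ, Module.End.mul_apply]
  have h1 := modEq_fixed hr σ (fun v => Subtype.ext (by rw [hσ, hx]; rfl))
  have h2 : Nat.card {a // σ a = a} =
      Nat.card {u : LinearMap.ker (x - 1) // (Q.comp (LinearMap.ker (x - 1)).subtype) u = c} := by
    refine Nat.card_congr
      { toFun := fun a => ⟨⟨(a.1 : V), ?_⟩, a.1.2⟩
        invFun := fun u => ⟨⟨(u.1 : V), u.2⟩, ?_⟩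
        left_inv := fun a => rfl
        right_inv := fun u => rfl }
    · have := congrArg Subtype.val a.2
      change x (a.1 : V) = a.1 at this
      exact mem_ker_sub.2 this
    · apply Subtype.ext
      exact mem_ker_sub.1 u.1.2
  rw [← h2]
  exact h1

/-- signs modulo a prime -/
theorem sign_mod [Finite F] [FiniteDimensional F V] {Q : QuadraticForm F V} {r : ℕ} (hr : r.Prime)
    {x : V →ₗ[F] V} (hx : x ^ r = 1) (hxQ : ∀ v, Q (x v) = Q v) {n u : ℕ} {ε δ : ℤ}
    [Finite V] (hV : finrank F V = 2 * n) (hε : HasSign (⇑Q) n ε)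
    (hU : finrank F (LinearMap.ker (x - 1)) = 2 * u)
    (hδ : HasSign (⇑(Q.comp (LinearMap.ker (x - 1)).subtype)) u δ) :
    (r : ℤ) ∣ ((Nat.card F : ℤ) ^ (2 * n) - ε * (Nat.card F : ℤ) ^ n) -
      ((Nat.card F : ℤ) ^ (2 * u) - δ * (Nat.card F : ℤ) ^ u) := by
  have h1 := card_of_hasSign' hV hε (c := 1) one_ne_zero
  have h2 := card_of_hasSign' hU hδ (c := 1) one_ne_zero
  have h3 := card_modEq Q hr x hx hxQ 1
  rw [← h1, ← h2, ← mul_sub]
  apply Dvd.dvd.mul_left
  have h4 := (Nat.modEq_iff_dvd.1 h3.symm)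
  exact h4

/-- the boundary case -/
theorem bd [Finite F] [FiniteDimensional F V] [Finite V] {Q : QuadraticForm F V} (hQ : ND Q) {n : ℕ} (hn : 3 ≤ n)
    (hV : finrank F V = 2 * n) {ε σ τ : ℤ} (hε : ε = 1 ∨ ε = -1) (hsg : HasSign (⇑Q) n ε)
    {v w : ℕ} (hv : v.Prime) (hw : w.Prime) (hv2 : v ≠ 2) (hw2 : w ≠ 2) (hvF : (v : F) ≠ 0) (hwF : (w : F) ≠ 0)
    (hk : (orderOf ((Nat.card F : ℕ) : ZMod w) = 2 * (n - 1) ∧ σ = -1) ∨
      (orderOf ((Nat.card F : ℕ) : ZMod w) = n - 1 ∧ Odd (n - 1) ∧ σ = 1))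
    (hwd : (w : ℤ) ∣ (Nat.card F : ℤ) ^ (n - 1) - σ)
    (hτ : τ = 1 ∨ τ = -1) (hvd : (v : ℤ) ∣ (Nat.card F : ℤ) - τ) (hmis : ε * σ = -τ)
    (hnot : ¬ (v : ℤ) ∣ (Nat.card F : ℤ) ^ (n - 1) - σ)
    {x y : V →ₗ[F] V} (hxy : ∀ u, x (y u) = y (x u)) (hx : x ^ v = 1) (hy : y ^ w = 1) (hx1 : x ≠ 1) (hy1 : y ≠ 1)
    (hxQ : ∀ u, Q (x u) = Q u) (hyQ : ∀ u, Q (y u) = Q u) : False := by
  set q : ℤ := (Nat.card F : ℤ) with hq
  have hσ : σ = 1 ∨ σ = -1 := by
    rcases hk with h | h
    · exact Or.inr h.2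
    · exact Or.inl h.2.2
  have hqp : ∀ {r : ℕ}, r.Prime → (r : F) ≠ 0 → ¬ (r : ℤ) ∣ q := by
    intro r hr hrF h
    apply hrF
    have h1 : r ∣ Nat.card F := Int.natCast_dvd_natCast.1 h
    obtain ⟨p, hp⟩ := CharP.exists F
    have hpp : p.Prime := CharP.char_is_prime F p
    have := Fact.mk hpp
    have := Fintype.ofFinite F
    obtain ⟨m, -, hm⟩ := FiniteField.card F p
    rw [Nat.card_eq_fintype_card, hm] at h1
    rw [(Nat.prime_dvd_prime_iff_eq hr hpp).1 (hr.dvd_of_dvd_pow h1)]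
    exact CharP.cast_eq_zero F p
  have hr3 : ∀ {r : ℕ}, r.Prime → r ≠ 2 → ∀ {a b : ℤ}, (a = 1 ∨ a = -1) → (b = 1 ∨ b = -1) → (r : ℤ) ∣ a - b → a = b := by
    intro r hr hr2 a b ha hb h
    have h3 : (3 : ℤ) ≤ r := by
      have := hr.two_le
      have h4 : 3 ≤ r := by omega
      exact_mod_cast h4
    rcases ha with rfl | rfl <;> rcases hb with rfl | rfl
    · rfl
    · exfalso
      have := Int.le_of_dvd (by norm_num) h
      omega
    · exfalso
      have := Int.le_of_dvd (by norm_num) ((dvd_neg (α := ℤ)).2 h)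
      omega
    · rfl
  have hvZ : Prime (v : ℤ) := Nat.prime_iff_prime_int.1 hv
  have hwZ : Prime (w : ℤ) := Nat.prime_iff_prime_int.1 hw
  obtain ⟨m, rfl⟩ : ∃ m, n = m + 1 := ⟨n - 1, by omega⟩
  rw [Nat.add_sub_cancel] at hk hwd hnot
  -- dimensions of `y`
  have hdy : 2 * m ∣ finrank F (LinearMap.range (y - 1)) := by
    rcases hk with h | h
    · refine dvd_finrank Q hQ hw hw2 hwF y hy hyQ (Or.inr ⟨?_, h.1.symm⟩)
      rw [h.1]; exact even_two_mul m
    · refine dvd_finrank Q hQ hw hw2 hwF y hy hyQ (Or.inl ⟨?_, h.1.symm⟩)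
      rw [h.1]; exact h.2.1
  have hne : ∀ {z : V →ₗ[F] V}, z ≠ 1 → finrank F (LinearMap.range (z - 1)) ≠ 0 := by
    intro z hz h0
    rw [Submodule.finrank_eq_zero, LinearMap.range_eq_bot, sub_eq_zero] at h0
    exact hz h0
  have hkr : ∀ z : V →ₗ[F] V, finrank F (LinearMap.range (z - 1)) + finrank F (LinearMap.ker (z - 1)) = 2 * (m + 1) :=
    fun z => by rw [← hV]; exact LinearMap.finrank_range_add_finrank_ker (z - 1)
  have hfin : ∀ {d : ℕ}, 2 * m ∣ d → d ≠ 0 → d ≤ 2 * (m + 1) → d = 2 * m := by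
    intro d hd h0 hle
    obtain ⟨t, rfl⟩ := hd
    have h1 : t ≠ 0 := by rintro rfl; exact h0 (mul_zero _)
    have h2 : t < 2 := by
      by_contra h6
      have : 2 * m * 2 ≤ 2 * m * t := Nat.mul_le_mul_left _ (by omega)
      omega
    have h3 : t = 1 := by omega
    rw [h3, mul_one]
  have hdy2 : finrank F (LinearMap.range (y - 1)) = 2 * m := hfin hdy (hne hy1) (by have := hkr y; omega)
  have hUd : finrank F (LinearMap.ker (y - 1)) = 2 * 1 := by have := hkr y; omega
  have hyM := (range_inv (x := y) (y := y) (fun v => rfl)).1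
  have hUn : ND (Q.comp (LinearMap.ker (y - 1)).subtype) := (dec Q hQ (hw.odd_of_ne_two hw2) hwF y hy hyQ hyM).1
  obtain ⟨δ, hδ, hUs⟩ := exists_hasSign le_rfl hUd _ hUn
  -- `δ = ε σ`
  have hδε : δ = ε * σ := by
    have h1 := sign_mod hw hy hyQ hV hsg hUd hUs
    rw [← hq] at h1
    have h2 : (w : ℤ) ∣ q ^ m * q ^ m - 1 := by
      have h3 : q ^ m * q ^ m - 1 = (q ^ m - σ) * (q ^ m + σ) := by
        rcases hσ with h | h <;> rw [h] <;> ring
      rw [h3]
      exact Dvd.dvd.mul_right hwd _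
    have h3 : (w : ℤ) ∣ q * (δ - ε * σ) := by
      have h4 : q * (δ - ε * σ) = (q ^ (2 * (m + 1)) - ε * q ^ (m + 1)) - (q ^ (2 * 1) - δ * q ^ 1)
          - q ^ 2 * (q ^ m * q ^ m - 1) + ε * q * (q ^ m - σ) := by ring
      rw [h4]
      exact (dvd_sub h1 (Dvd.dvd.mul_left h2 _)).add (Dvd.dvd.mul_left hwd _)
    have h4 := (hwZ.dvd_or_dvd h3).resolve_left (hqp hw hwF)
    refine hr3 hw hw2 hδ ?_ h4
    rcases hε with h | h <;> rcases hσ with h' | h' <;> rw [h, h'] <;> norm_num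
  -- `x` on `U`
  set U := LinearMap.ker (y - 1) with hU
  have hxU : ∀ u ∈ U, x u ∈ U := (range_inv (x := y) (y := x) (fun u => (hxy u).symm)).2
  set xU : U →ₗ[F] U := x.restrict hxU with hxUdef
  have hxUv : ∀ (j : ℕ) (u : U), (((xU ^ j) u : U) : V) = (x ^ j) u := fun j => by
    induction j with
    | zero => intro u; rfl
    | succ j ih =>
      intro u
      rw [pow_succ', Module.End.mul_apply, pow_succ', Module.End.mul_apply, ← ih]
      rfl
  have hxU1 : xU ^ v = 1 := by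
    ext u
    rw [hxUv, hx]
    rfl
  have hxUQ : ∀ u, (Q.comp U.subtype) (xU u) = (Q.comp U.subtype) u := fun u => hxQ u
  have hodd := hv.odd_of_ne_two hv2
  have hev : Even (finrank F (LinearMap.range (xU - 1))) :=
    (dec (Q.comp U.subtype) hUn hodd hvF xU hxU1 hxUQ (range_inv (x := xU) (y := xU) (fun v => rfl)).1).2.2.2.2.2
  have hkrU := LinearMap.finrank_range_add_finrank_ker (xU - 1)
  rw [hUd] at hkrU
  by_cases hfix : xU = 1
  · -- `x` acts on the complement
    have hUx : U ≤ LinearMap.ker (x - 1) := by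
      intro u hu
      rw [mem_ker_sub]
      have h1 : ((xU ⟨u, hu⟩ : U) : V) = u := by rw [hfix]; rfl
      exact h1
    have hxM := (range_inv (x := x) (y := x) (fun v => rfl)).1
    have hyR := (range_inv (x := x) (y := y) hxy).1
    have hevx : Even (finrank F (LinearMap.range (x - 1))) :=
      (dec Q hQ hodd hvF x hx hxQ hxM).2.2.2.2.2
    have hdk : orderOf ((Nat.card F : ℕ) : ZMod w) ∣ finrank F (LinearMap.range (x - 1)) :=
      dvd_finrank_of_fpf_submodule hw y hy _ hyR (fun u hu hyu =>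
        fpf_range hvF x hx u hu (mem_ker_sub.1 (hUx (mem_ker_sub.2 hyu))))
    have hd2 : 2 * m ∣ finrank F (LinearMap.range (x - 1)) := by
      rcases hk with h | h
      · rw [← h.1]; exact hdk
      · rw [h.1] at hdk
        exact Nat.Coprime.mul_dvd_of_dvd_of_dvd (Nat.coprime_two_left.2 h.2.1) hevx.two_dvd hdk
    have hdx2 : finrank F (LinearMap.range (x - 1)) = 2 * m := hfin hd2 (hne hx1) (by have := hkr x; omega)
    have hUe : U = LinearMap.ker (x - 1) := by
      apply Submodule.eq_of_le_of_finrank_eq hUx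
      have h3 := hkr x
      omega
    have hKs : HasSign (⇑(Q.comp (LinearMap.ker (x - 1)).subtype)) 1 δ := by
      rw [← hUe]; exact hUs
    have h1 := sign_mod hv hx hxQ hV hsg (u := 1) (by rw [← hUe]; exact hUd) hKs
    rw [← hq] at h1
    have h2 : (v : ℤ) ∣ q * q - 1 := by
      have h3 : q * q - 1 = (q - τ) * (q + τ) := by
        rcases hτ with h | h <;> rw [h] <;> ring
      rw [h3]
      exact Dvd.dvd.mul_right hvd _
    have h3 : (v : ℤ) ∣ q ^ m * q ^ m - 1 := by
      have h4 : q ^ m * q ^ m - 1 = (q * q) ^ m - 1 ^ m := by rw [mul_pow, one_pow]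
      rw [h4]
      exact h2.trans (sub_dvd_pow_sub_pow _ _ _)
    have h4 : (v : ℤ) ∣ q * (δ - ε * q ^ m) := by
      have h5 : q * (δ - ε * q ^ m) = (q ^ (2 * (m + 1)) - ε * q ^ (m + 1)) - (q ^ (2 * 1) - δ * q ^ 1)
          - q ^ 2 * (q ^ m * q ^ m - 1) := by ring
      rw [h5]
      exact dvd_sub h1 (Dvd.dvd.mul_left h3 _)
    have h5 := (hvZ.dvd_or_dvd h4).resolve_left (hqp hv hvF)
    apply hnot
    have h6 : q ^ m - σ = -ε * (δ - ε * q ^ m) := by
      rw [hδε]
      rcases hε with h | h <;> rw [h] <;> ring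
    rw [h6]
    exact Dvd.dvd.mul_left h5 _
  · -- `x` acts on `U` without fixed points
    have h1 : finrank F (LinearMap.range (xU - 1)) ≠ 0 := by
      intro h0
      rw [Submodule.finrank_eq_zero, LinearMap.range_eq_bot, sub_eq_zero] at h0
      exact hfix h0
    have h2 : finrank F (LinearMap.ker (xU - 1)) = 0 := by
      obtain ⟨t, ht⟩ := hev
      omega
    have h3 := card_modEq (Q.comp U.subtype) hv xU hxU1 hxUQ 1
    have h4 : Nat.card {u : LinearMap.ker (xU - 1) //
        ((Q.comp U.subtype).comp (LinearMap.ker (xU - 1)).subtype) u = 1} = 0 := by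
      rw [Nat.card_eq_zero]
      left
      refine ⟨fun a => ?_⟩
      have h5 : (a.1 : LinearMap.ker (xU - 1)) = 0 := by
        have := Submodule.finrank_eq_zero.1 h2
        exact Subtype.ext ((Submodule.eq_bot_iff _).1 this _ a.1.2)
      have h6 := a.2
      rw [h5, map_zero] at h6
      exact zero_ne_one h6
    rw [h4] at h3
    have h5 := card_of_hasSign' hUd hUs (c := 1) one_ne_zero
    have h6 : (v : ℤ) ∣ (Nat.card {u : U // (Q.comp U.subtype) u = 1} : ℤ) := by
      exact_mod_cast (Nat.modEq_zero_iff_dvd.1 h3)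
    have h7 : (v : ℤ) ∣ q * (q - δ) := by
      have : q * (q - δ) = q ^ (2 * 1) - δ * q ^ 1 := by ring
      rw [this, ← h5]
      exact Dvd.dvd.mul_left h6 _
    have h8 := (hvZ.dvd_or_dvd h7).resolve_left (hqp hv hvF)
    have h9 : (v : ℤ) ∣ δ - τ := by
      have : δ - τ = (q - τ) - (q - δ) := by ring
      rw [this]
      exact dvd_sub hvd h8
    have h10 := hr3 hv hv2 hδ hτ h9
    rw [hδε, hmis] at h10
    rcases hτ with h | h <;> rw [h] at h10 <;> norm_num at h10

end Cfsg.Agent.H706.Cyc
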