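import Cfsg.Agent.H706.Cyc.Bd
import Cfsg.Agent.H706.ESeven.Ctx
import Cfsg.Agent.H376.Cyc.Def
import Cfsg.Agent.H390.Nonadj2
import Cfsg.Agent.H150.FarOrthEven
import Cfsg.Agent.H364.OrthP

/-!
# The facts `LF` for `PΩ⁺`, `PΩ⁻` (helper706; S3441, task 4354)
-/

set_option autoImplicit false

namespace Cfsg.Agent.H706.Cyc

open Module Cfsg QuadraticMap Cfsg.Agent.H150 Cfsg.Agent.H377 Cfsg.Agent.H72.AdjOrth Cfsg.Agent.H376.Cyc
open Cfsg.Agent.LieClassical.OmegaReindex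
open Cfsg.Agent.H706.ESeven (eta_le_of_dvd eta_two_mul pow_two_mul_sub prod_arith)

universe v

/-- one of the classes is an odd multiple of the other -/
def OddM (k l : ℕ) : Prop := ∃ t : ℕ, Odd t ∧ (l = k * t ∨ k = l * t)

theorem eta_isEta (k : ℕ) : Cfsg.Agent.H390.NonAdj.IsEta k (eta k) := by
  rw [eta]
  split_ifs with h
  · obtain ⟨j, hj⟩ := h
    exact Or.inr ⟨⟨j, hj⟩, by omega⟩
  · exact Or.inl ⟨Nat.not_even_iff_odd.1 h, rfl⟩

/-- the context -/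
structure Cx {F : Type v} [Field F] [Fintype F] {ι : Type} [Fintype ι] [DecidableEq ι] (Q : QuadraticForm F (ι → F))
    (n : ℕ) (ε : ℤ) : Prop where
  hn : 4 ≤ n
  hε : ε = 1 ∨ ε = -1
  nd : (polarBilin Q).Nondegenerate
  dim : finrank F (ι → F) = 2 * n
  iso : ∃ u : ι → F, u ≠ 0 ∧ Q u = 0
  sg : HasSign (⇑Q) n ε
  D : Cfsg.Agent.H390.Lift.Data Q
  dvp : ∀ r : ℕ, r.Prime → r ≠ 2 → r ∣ ∏ i ∈ Finset.range (n - 1), (Fintype.card F ^ (2 * (i + 1)) - 1) →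
    r ∣ Nat.card (POmega F (⇑Q))
  dvn : ∀ r : ℕ, r.Prime → r ≠ 2 → (r : ℤ) ∣ (Fintype.card F : ℤ) ^ n - ε → r ∣ Nat.card (POmega F (⇑Q))
  cls : ∀ s : ℕ, s.Prime → (s : F) ≠ 0 → s ∣ Nat.card (POmega F (⇑Q)) → eta (ee (Nat.card F) s) ≤ n

section ctx

variable {F : Type v} [Field F] [Fintype F] {ι : Type} [Fintype ι] [DecidableEq ι] {Q : QuadraticForm F (ι → F)}
  {n : ℕ} {ε : ℤ}

theorem q_pos : 1 ≤ Nat.card F := Nat.card_pos

theorem ndvd {s : ℕ} (hs : s.Prime) (hsF : (s : F) ≠ 0) : ¬ s ∣ Nat.card F :=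
  (Cfsg.Agent.H390.NonAdj.natCast_ne_zero_iff hs).1 hsF

theorem cl_pos {s : ℕ} (hs : s.Prime) (hsF : (s : F) ≠ 0) : 1 ≤ ee (Nat.card F) s := ee_pos hs (ndvd hs hsF)

theorem dvd_minus {s j : ℕ} (hs : s.Prime) (hsF : (s : F) ≠ 0) (h : ee (Nat.card F) s = 2 * j) :
    (s : ℤ) ∣ (Nat.card F : ℤ) ^ j - (-1) := by
  have h1 := dvd_tn (q := Nat.card F) q_pos hs (ndvd hs hsF)
  rw [tn, h, if_pos (even_two_mul j), Nat.mul_div_cancel_left j two_pos] at h1
  rw [sub_neg_eq_add]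
  exact_mod_cast h1

theorem dvd_plus {s j : ℕ} (h : ee (Nat.card F) s = j) : (s : ℤ) ∣ (Nat.card F : ℤ) ^ j - 1 := by
  have h1 := dvd_pow_ee (q := Nat.card F) (r := s) q_pos
  rw [h] at h1
  have h2 : ((Nat.card F ^ j - 1 : ℕ) : ℤ) = (Nat.card F : ℤ) ^ j - 1 := by
    rw [Nat.cast_sub (Nat.one_le_pow _ _ q_pos)]
    push_cast
    rfl
  rw [← h2]
  exact_mod_cast h1

theorem far (C : Cx Q n ε) {r s : ℕ} (hr : r.Prime) (hs : s.Prime) (hr2 : r ≠ 2) (hs2 : s ≠ 2) (hrs : r ≠ s)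
    (hrF : (r : F) ≠ 0) (hsF : (s : F) ≠ 0) (h : n < eta (ee (Nat.card F) r) + eta (ee (Nat.card F) s))
    (ho : ¬ OddM (ee (Nat.card F) r) (ee (Nat.card F) s)) : ¬ ∃ g : POmega F (⇑Q), orderOf g = r * s := by
  have hn := C.hn
  have hι : Fintype.card ι = 2 * n := by rw [← C.dim]; simp
  have hr1 := eta_pos (cl_pos hr hrF)
  have hs1 := eta_pos (cl_pos hs hsF)
  rintro ⟨g, hg⟩
  rcases le_total (eta (ee (Nat.card F) s)) (eta (ee (Nat.card F) r)) with hle | hle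
  · refine Cfsg.Agent.H390.pomega_nonadj C.D hr hs hr2 hs2 hrs hrF hsF rfl rfl (eta_isEta _) (eta_isEta _) hs1 hle
      (by change 2 ≤ eta (ee (Nat.card F) r); omega) (fun h2 => ?_) (by
        change Fintype.card ι < 2 * (eta (ee (Nat.card F) s) + eta (ee (Nat.card F) r)); omega) ?_ g hg
    · change eta (ee (Nat.card F) r) = 2 at h2
      omega
    · rintro ⟨t, ht, h3⟩
      exact ho ⟨t, ht, Or.inr h3⟩
  · rw [mul_comm] at hg
    refine Cfsg.Agent.H390.pomega_nonadj C.D hs hr hs2 hr2 hrs.symm hsF hrF rfl rfl (eta_isEta _) (eta_isEta _) hr1 hle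
      (by change 2 ≤ eta (ee (Nat.card F) s); omega) (fun h2 => ?_) (by
        change Fintype.card ι < 2 * (eta (ee (Nat.card F) r) + eta (ee (Nat.card F) s)); omega) ?_ g hg
    · change eta (ee (Nat.card F) s) = 2 at h2
      omega
    · rintro ⟨t, ht, h3⟩
      exact ho ⟨t, ht, Or.inl h3⟩

theorem bdp (C : Cx Q n ε) {v w : ℕ} (hv : v.Prime) (hw : w.Prime) (hv2 : v ≠ 2) (hw2 : w ≠ 2) (hvF : (v : F) ≠ 0)
    (hwF : (w : F) ≠ 0) {σ τ : ℤ}
    (hk : (ee (Nat.card F) w = 2 * (n - 1) ∧ σ = -1) ∨ (ee (Nat.card F) w = n - 1 ∧ Odd (n - 1) ∧ σ = 1))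
    (hl : (ee (Nat.card F) v = 1 ∧ τ = 1) ∨ (ee (Nat.card F) v = 2 ∧ τ = -1)) (hmis : ε * σ = -τ)
    (hnot : τ ^ (n - 1) ≠ σ) : ¬ ∃ g : POmega F (⇑Q), orderOf g = v * w := by
  intro hg
  have hn := C.hn
  have hodd : Odd (v * w) := (hv.odd_of_ne_two hv2).mul (hw.odd_of_ne_two hw2)
  obtain ⟨T, hTQ, hT⟩ := Cfsg.Agent.H390.exists_lin_of_order C.D hodd hg
  obtain ⟨h1, h2, h3, h4⟩ := Cfsg.Agent.H390.split_prime hv hw hT
  have hσ : σ = 1 ∨ σ = -1 := by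
    rcases hk with h | h
    · exact Or.inr h.2
    · exact Or.inl h.2.2
  have hτ : τ = 1 ∨ τ = -1 := by
    rcases hl with h | h
    · exact Or.inl h.2
    · exact Or.inr h.2
  have hwd : (w : ℤ) ∣ (Nat.card F : ℤ) ^ (n - 1) - σ := by
    rcases hk with h | h
    · rw [h.2]; exact dvd_minus hw hwF h.1
    · rw [h.2.2]; exact dvd_plus h.1
  have hvd : (v : ℤ) ∣ (Nat.card F : ℤ) - τ := by
    rcases hl with h | h
    · have := dvd_plus (F := F) h.1
      rwa [pow_one, ← h.2] at this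
    · have := dvd_minus (F := F) (j := 1) hv hvF h.1
      rwa [pow_one, ← h.2] at this
  refine bd C.D.ND (by omega) C.dim C.hε C.sg hv hw hv2 hw2 hvF hwF hk hwd hτ hvd hmis ?_
    (x := T ^ w) (y := T ^ v) (fun u => ?_) h1 h3 h2 h4 (Cfsg.Agent.H390.NonAdj.quad_pow hTQ w)
    (Cfsg.Agent.H390.NonAdj.quad_pow hTQ v)
  · intro h5
    apply hnot
    have h6 : (v : ℤ) ∣ (Nat.card F : ℤ) ^ (n - 1) - τ ^ (n - 1) := hvd.trans (sub_dvd_pow_sub_pow _ _ _)
    have h7 : (v : ℤ) ∣ τ ^ (n - 1) - σ := by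
      have : τ ^ (n - 1) - σ = ((Nat.card F : ℤ) ^ (n - 1) - σ) - ((Nat.card F : ℤ) ^ (n - 1) - τ ^ (n - 1)) := by ring
      rw [this]
      exact dvd_sub h5 h6
    have h8 : τ ^ (n - 1) = 1 ∨ τ ^ (n - 1) = -1 := by
      rcases hτ with h | h
      · left; rw [h, one_pow]
      · rw [h]; exact neg_one_pow_eq_or ℤ (n - 1)
    have h9 : (3 : ℤ) ≤ v := by
      have := hv.two_le
      have h4 : 3 ≤ v := by omega
      exact_mod_cast h4
    rcases h8 with h8 | h8 <;> rcases hσ with h | h <;> rw [h8, h] at h7 ⊢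
    · exfalso
      have := Int.le_of_dvd (by norm_num) h7
      omega
    · exfalso
      have := Int.le_of_dvd (by norm_num) ((dvd_neg (α := ℤ)).2 h7)
      omega
  · rw [← Module.End.mul_apply, ← Module.End.mul_apply, ← pow_add, ← pow_add, add_comm]

/-- the characteristic -/
theorem nch (C : Cx Q n ε) {r s : ℕ} (hr : r.Prime) (hs : s.Prime) (hr2 : r ≠ 2) (hrF : (r : F) ≠ 0)
    (hsF : (s : F) = 0) (hη : eta (ee (Nat.card F) r) = n ∨ eta (ee (Nat.card F) r) = n - 1) :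
    ¬ ∃ g : POmega F (⇑Q), orderOf g = s * r := by
  rintro ⟨g, hg⟩
  obtain ⟨p, hc⟩ := CharP.exists F
  have hpp : p.Prime := CharP.char_is_prime F p
  have := Fact.mk hpp
  have h1 : p = s := (Nat.prime_dvd_prime_iff_eq hpp hs).1 ((CharP.cast_eq_zero_iff F p s).1 hsF)
  subst h1
  have hrp : r ≠ p := by
    rintro rfl
    exact hrF hsF
  rw [mul_comm] at hg
  exact Cfsg.Agent.H364.OrthUnip.pomega_noEdge p Q C.nd C.hn C.dim C.iso hr hrp hr2 rfl (eta_isEta _) hη g hg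

/-! ### the neighbours -/

theorem nb_plus_one (C : Cx Q n 1) {r s : ℕ} (hr : r.Prime) (hs : s.Prime) (hr2 : r ≠ 2) (hs2 : s ≠ 2) (hrs : s ≠ r)
    (hrF : (r : F) ≠ 0) (hsF : (s : F) ≠ 0) (hk : ee (Nat.card F) r = 2 * (n - 1))
    (h : ∃ g : POmega F (⇑Q), orderOf g = s * r) : Even (ee (Nat.card F) s) := by
  have hn := C.hn
  by_contra hodd
  rw [Nat.not_even_iff_odd] at hodd
  have h1 := cl_pos hs hsF
  rcases Nat.eq_or_lt_of_le h1 with h2 | h2
  · exact bdp C hs hr hs2 hr2 hsF hrF (σ := -1) (τ := 1) (Or.inl ⟨hk, rfl⟩) (Or.inl ⟨h2.symm, rfl⟩) (by norm_num)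
      (by rw [one_pow]; norm_num) h
  · refine far C hs hr hs2 hr2 hrs hsF hrF ?_ ?_ h
    · rw [hk, eta, if_neg (Nat.not_even_iff_odd.2 hodd), eta, if_pos (even_two_mul _), Nat.mul_div_cancel_left _ two_pos]
      omega
    · rintro ⟨t, ht, h3 | h3⟩
      · rw [hk] at h3
        have := hodd.mul ht
        rw [← h3] at this
        exact (Nat.not_even_iff_odd.2 this) (even_two_mul _)
      · rw [hk] at h3
        rw [h3, mul_assoc] at hodd
        exact (Nat.not_even_iff_odd.2 hodd) (even_two_mul _)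

theorem nb_plus_two (C : Cx Q n 1) {r s : ℕ} (hr : r.Prime) (hs : s.Prime) (hr2 : r ≠ 2) (hs2 : s ≠ 2) (hrs : s ≠ r)
    (hrF : (r : F) ≠ 0) (hsF : (s : F) ≠ 0) {k : ℕ} (hk : ee (Nat.card F) r = k) (hko : Odd k)
    (hkn : k = n ∨ k = n - 1) (h : ∃ g : POmega F (⇑Q), orderOf g = s * r) : Odd (ee (Nat.card F) s) := by
  have hn := C.hn
  by_contra hev
  rw [Nat.not_odd_iff_even] at hev
  have h1 := cl_pos hs hsF
  have hfar : n < eta (ee (Nat.card F) s) + k → False := by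
    intro h2
    refine far C hs hr hs2 hr2 hrs hsF hrF ?_ ?_ h
    · rw [hk, eta.eq_def k, if_neg (Nat.not_even_iff_odd.2 hko)]
      exact h2
    · rintro ⟨t, ht, h3 | h3⟩
      · rw [hk] at h3
        rw [h3] at hko
        exact (Nat.not_even_iff_odd.2 hko) (hev.mul_right t)
      · rw [hk] at h3
        rw [h3] at hev
        exact (Nat.not_even_iff_odd.2 (hko.mul ht)) hev
  by_cases h2 : ee (Nat.card F) s = 2
  · rcases hkn with h3 | h3
    · apply hfar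
      rw [h2, show eta 2 = 1 from rfl]
      omega
    · refine bdp C hs hr hs2 hr2 hsF hrF (σ := 1) (τ := -1) (Or.inr ⟨by rw [hk, h3], h3 ▸ hko, rfl⟩) (Or.inr ⟨h2, rfl⟩)
        (by norm_num) ?_ h
      rw [(h3 ▸ hko : Odd (n - 1)).neg_one_pow]
      norm_num
  · apply hfar
    rw [eta, if_pos hev]
    obtain ⟨j, hj⟩ := hev
    omega

theorem nb_minus_one (C : Cx Q n (-1)) {r s : ℕ} (hr : r.Prime) (hs : s.Prime) (hr2 : r ≠ 2) (hs2 : s ≠ 2)
    (hrs : s ≠ r) (hrF : (r : F) ≠ 0) (hsF : (s : F) ≠ 0) (hk : ee (Nat.card F) r = 2 * n)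
    (h : ∃ g : POmega F (⇑Q), orderOf g = s * r) : OddM (ee (Nat.card F) s) (2 * n) := by
  by_contra hcon
  refine far C hs hr hs2 hr2 hrs hsF hrF ?_ (by rwa [hk]) h
  have h1 := eta_pos (cl_pos hs hsF)
  rw [hk, eta.eq_def (2 * n), if_pos (even_two_mul _), Nat.mul_div_cancel_left _ two_pos]
  omega

theorem nb_minus_two (C : Cx Q n (-1)) {r s : ℕ} (hr : r.Prime) (hs : s.Prime) (hr2 : r ≠ 2) (hs2 : s ≠ 2)
    (hrs : s ≠ r) (hrF : (r : F) ≠ 0) (hsF : (s : F) ≠ 0) (hk : ee (Nat.card F) r = 2 * (n - 1))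
    (h : ∃ g : POmega F (⇑Q), orderOf g = s * r) :
    OddM (ee (Nat.card F) s) (2 * (n - 1)) ∨ ee (Nat.card F) s = 1 := by
  have hn := C.hn
  by_contra hcon
  push Not at hcon
  obtain ⟨hc1, hc2⟩ := hcon
  have h1 := cl_pos hs hsF
  by_cases h2 : ee (Nat.card F) s = 2
  · have hev : Even (n - 1) := by
      by_contra hodd
      rw [Nat.not_even_iff_odd] at hodd
      exact hc1 ⟨n - 1, hodd, Or.inl (by rw [h2])⟩
    refine bdp C hs hr hs2 hr2 hsF hrF (σ := -1) (τ := -1) (Or.inl ⟨hk, rfl⟩) (Or.inr ⟨h2, rfl⟩) (by norm_num) ?_ h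
    rw [hev.neg_one_pow]
    norm_num
  · refine far C hs hr hs2 hr2 hrs hsF hrF ?_ (by rwa [hk]) h
    rw [hk, eta.eq_def (2 * (n - 1)), if_pos (even_two_mul _), Nat.mul_div_cancel_left _ two_pos]
    have h3 : 2 ≤ eta (ee (Nat.card F) s) := by
      rw [eta]
      split_ifs with h4
      · obtain ⟨j, hj⟩ := h4
        omega
      · omega
    omega

theorem val_of_oddM {k l : ℕ} (hk : k ≠ 0) (hl : l ≠ 0) (h : OddM k l) : padicValNat 2 k = padicValNat 2 l := by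
  have h0 : ∀ {a t : ℕ}, a ≠ 0 → Odd t → padicValNat 2 (a * t) = padicValNat 2 a := by
    intro a t ha ht
    have ht0 : t ≠ 0 := by rintro rfl; exact absurd ht (by decide)
    rw [padicValNat.mul ha ht0, padicValNat.eq_zero_of_not_dvd (n := t), add_zero]
    intro h1
    exact (Nat.not_even_iff_odd.2 ht) (even_iff_two_dvd.2 h1)
  obtain ⟨t, ht, h1 | h1⟩ := h
  · rw [h1, h0 hk ht]
  · rw [h1, h0 hl ht]

theorem val_ne {n : ℕ} (hn : 2 ≤ n) : padicValNat 2 (2 * n) ≠ padicValNat 2 (2 * (n - 1)) := by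
  have h1 : padicValNat 2 2 = 1 := by
    rw [padicValNat.self (by norm_num)]
  rw [padicValNat.mul (by norm_num) (by omega), padicValNat.mul (by norm_num) (by omega), h1]
  intro h2
  have h3 : padicValNat 2 n = padicValNat 2 (n - 1) := by omega
  rcases Nat.even_or_odd n with h | h
  · have h4 : padicValNat 2 (n - 1) = 0 := by
      apply padicValNat.eq_zero_of_not_dvd
      obtain ⟨j, hj⟩ := h
      omega
    have h5 : 1 ≤ padicValNat 2 n := by
      apply one_le_padicValNat_of_dvd (by omega) (even_iff_two_dvd.1 h)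
    omega
  · have h4 : padicValNat 2 n = 0 := by
      apply padicValNat.eq_zero_of_not_dvd
      obtain ⟨j, hj⟩ := h
      omega
    have h5 : 1 ≤ padicValNat 2 (n - 1) := by
      apply one_le_padicValNat_of_dvd (by omega)
      obtain ⟨j, hj⟩ := h
      omega
    omega

/-- a primitive prime -/
theorem exists_pr {k : ℕ} (hk : 3 ≤ k) (h6 : ¬ (Fintype.card F = 2 ∧ k = 6)) :
    ∃ r : ℕ, r.Prime ∧ 5 ≤ r ∧ (r : F) ≠ 0 ∧ ee (Nat.card F) r = k ∧ (∀ m, r ∣ Fintype.card F ^ m - 1 ↔ k ∣ m) := by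
  obtain ⟨r, hr, hr2, hrF, hkr, hrm⟩ := exists_primitive_prime (F := F) hk h6
  refine ⟨r, hr, ?_, hrF, hkr, hrm⟩
  have := Fact.mk hr
  have h0 : ((Nat.card F : ℕ) : ZMod r) ≠ 0 := fun h => ndvd hr hrF ((ZMod.natCast_eq_zero_iff _ _).1 h)
  have h1 := ZMod.orderOf_dvd_card_sub_one h0
  rw [hkr] at h1
  have h2 := Nat.le_of_dvd (by have := hr.two_le; omega) h1
  by_contra h3
  have h4 : r = 4 := by omega
  rw [h4] at hr
  exact absurd hr (by norm_num)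

theorem dvd_L_prod (C : Cx Q n ε) {r k : ℕ} (hr : r.Prime) (hr2 : r ≠ 2) (hrm : ∀ m, r ∣ Fintype.card F ^ m - 1 ↔ k ∣ m)
    (hk : k ∣ 2 * (n - 1)) : r ∣ Nat.card (POmega F (⇑Q)) := by
  have hn := C.hn
  exact C.dvp r hr hr2 (dvd_prod_factor hrm (i := n - 1) (by omega) le_rfl hk)

end ctx

end Cfsg.Agent.H706.Cyc
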